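import Cfsg.Agent.H972.CS.Eval
import Cfsg.Agent.H795.Untw
import Cfsg.Agent.BpExc.RowsUntw
import Cfsg.Agent.H742.EX.EPi

/-!
# S5745: class sizes in the untwisted groups from the kernel evaluation (helper38)

* `cent_le` : if the kernel evaluation `Data.ok` succeeds with the bound `K` at all representatives, then the
  centralisers of the elements of order `s` in `D.group F` have order at most `K`;
* `cG_ge`, `cG_ge_iso` : the same in terms of class sizes.
-/

set_option autoImplicit false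
set_option linter.unusedSectionVars false

namespace Cfsg.Agent.H38.CS

open CoxeterSystem Cfsg Cfsg.Lie Cfsg.Lie.ChevalleyDatum
open Cfsg.Agent.ChevalleyStructure Cfsg.Agent.ChevalleyStructure.Elts Cfsg.Agent.ChevalleyStructure.CoxeterGeom
  Cfsg.Agent.ChevalleyStructure.CoxeterGeomTypes Cfsg.Agent.ChevalleyStructure.NPerm
open Cfsg.Agent.Tits.Roots Cfsg.Agent.Tits.Core Cfsg.Agent.Nodes Cfsg.Agent.Nodes.Reps Cfsg.Agent.Nodes.BNOf
  Cfsg.Agent.Nodes.RGDChev
open Cfsg.Agent.KFacts.RgdField Cfsg.Agent.KFacts.RgdChevCoord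
open Cfsg.Agent.BpExc Cfsg.Agent.BpExc.NChev Cfsg.Agent.H129.TorusChar Cfsg.Agent.H129.TorusUntw Cfsg.Agent.H972.CS
  Cfsg.Agent.H972.CS.Main Cfsg.Agent.H972.CS.Eval

universe u v

section

variable {D : ChevalleyDatum} {l : ℕ} {M : CoxeterMatrix (Fin l)} (hp : IsType D l M)
  {F : Type u} [Field F] [Fintype F]

/-- **Centralisers from the evaluation** (untwisted groups). -/
theorem cent_le {d : ℕ} {B' : Fin l → Fin l → ℤ} (hB' : InvC D l d B') (hd : d ≠ 0) (hd1 : d = 1 ∨ d.Prime)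
    {s K : ℕ} (hs : s.Prime) (hsF : (s : F) ≠ 0) {Rf : Set ((Fin l → ℤ) →+ ZMod s)}
    (hRf : Meets hp M.toCoxeterSystem Rf) {Da : Data} {B : Fin l → Fin l → ℤ} (L : Link Da hp M.toCoxeterSystem B)
    {ε : ℤ} (hg : GOk Da hp M.toCoxeterSystem B (AddEquiv.refl (Fin l → ℤ)) ε)
    (hok : ∀ f ∈ Rf, f ≠ 0 → ∃ fl : List ℤ, fl.length = l ∧ (∀ i : Fin l, f (sr i) = ((fl.getD i 0 : ℤ) : ZMod s)) ∧
      Da.ok l (Fintype.card F) s ε K fl = true) {x : ↥(D.group F)} (hx : orderOf x = s) :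
    Nat.card ↥(Subgroup.centralizer {x}) ≤ K := by
  obtain ⟨r, e, hr, hrF, hrk, he, hq, hk⟩ := exists_closure (F := F) rfl
  have hsr : s ≠ r := by
    rintro rfl
    exact hsF (CharP.cast_eq_zero F s)
  obtain ⟨p, hp2, hpd⟩ : ∃ p : ℕ, p.Prime ∧ ¬ p ∣ d := by
    obtain ⟨p, h1, h2⟩ := Nat.exists_infinite_primes (d + 1)
    exact ⟨p, h2, fun h => by have := Nat.le_of_dvd (Nat.pos_of_ne_zero hd) h; omega⟩
  have : Fact p.Prime := ⟨hp2⟩
  have hset := Cfsg.Agent.H795.Untw.setup_untw hp hk (algebraMap F (AlgebraicClosure F)) he hq hB' hd hd1 (p := p) hpd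
  have hfin := finite_W hp M.toCoxeterSystem
  have hxs : x ^ s = 1 := by rw [← hx, pow_orderOf_eq_one]
  have hx1 : x ≠ 1 := by
    rintro rfl
    rw [orderOf_one] at hx
    exact hs.one_lt.ne hx
  let _ := ZMod.algebra F r
  have h1 : Algebra.IsAlgebraic (ZMod r) F := Algebra.IsAlgebraic.of_finite _ _
  have h2 : Algebra.IsAlgebraic (ZMod r) (AlgebraicClosure F) := Algebra.IsAlgebraic.trans (ZMod r) F _
  obtain ⟨z, hz⟩ := TorAll.exists_toral' hp r (y := Cfsg.Agent.GpExc.Field.emb hp.inList (algebraMap F (AlgebraicClosure F)) x) hs hsr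
    (by rw [← map_pow, hxs, map_one])
  obtain ⟨f, hf, hf0, w, hP, hC⟩ := bound_setup hk hset hB' hd hs hsr hRf hxs hx1 rfl hz
  obtain ⟨fl, hfl, hfv, hok1⟩ := hok f hf hf0
  rw [hq] at hok1
  have hs' := hs.pos
  obtain ⟨Cw, hCw, hv⟩ := ok_sound L hg (pow_pos (Fact.out : r.Prime).pos e) hfl hfv hP hok1
  exact (hC Cw hCw).trans hv

end

section

variable {G : Type*} [Group G]

theorem cG_mul [Finite G] (x : G) :
    Cfsg.Agent.H742.EX.cG x * Nat.card ↥(Subgroup.centralizer {x}) = Nat.card G := by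
  rw [Cfsg.Agent.H742.EX.card_G x]
  congr 1
  refine Nat.card_congr (Equiv.subtypeEquivRight fun g => ?_)
  show g ∈ Subgroup.centralizer {x} ↔ g⁻¹ * x * g = x
  rw [Subgroup.mem_centralizer_singleton_iff, mul_assoc, inv_mul_eq_iff_eq_mul]
  exact ⟨fun h => h.symm, fun h => h.symm⟩

/-- from the centraliser to the class -/
theorem cG_ge [Finite G] {x : G} {K c : ℕ} (hK : Nat.card ↥(Subgroup.centralizer {x}) ≤ K) (hc : c * K ≤ Nat.card G) :
    c ≤ Cfsg.Agent.H742.EX.cG x := by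
  by_contra hcon
  push Not at hcon
  have h1 := cG_mul x
  have h2 : 0 < Nat.card ↥(Subgroup.centralizer {x}) := Nat.card_pos
  have h3 : Cfsg.Agent.H742.EX.cG x * Nat.card ↥(Subgroup.centralizer {x}) < c * K := by
    calc Cfsg.Agent.H742.EX.cG x * Nat.card ↥(Subgroup.centralizer {x})
        < c * Nat.card ↥(Subgroup.centralizer {x}) := Nat.mul_lt_mul_of_pos_right hcon h2
      _ ≤ c * K := Nat.mul_le_mul_left _ hK
  omega

/-- the class size is invariant under isomorphisms -/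
theorem cG_iso {H : Type*} [Group H] (e : G ≃* H) (x : G) : Cfsg.Agent.H742.EX.cG (e x) = Cfsg.Agent.H742.EX.cG x := by
  unfold Cfsg.Agent.H742.EX.cG
  refine Nat.card_congr ⟨fun y => ⟨e.symm y.1, ?_⟩, fun y => ⟨e y.1, ?_⟩, ?_, ?_⟩
  · obtain ⟨c, hc⟩ := isConj_iff.1 y.2
    exact isConj_iff.2 ⟨e.symm c, by rw [← hc, map_mul, map_mul, map_inv, e.symm_apply_apply]⟩
  · obtain ⟨c, hc⟩ := isConj_iff.1 y.2
    exact isConj_iff.2 ⟨e c, by rw [← hc, map_mul, map_mul, map_inv]⟩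
  · intro y; exact Subtype.ext (by simp)
  · intro y; exact Subtype.ext (by simp)

end

end Cfsg.Agent.H38.CS
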