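import Cfsg.Agent.H38.CS.E6VA
import Cfsg.Agent.H38.CS.E6VB
import Cfsg.Agent.H38.CS.Gen
import Cfsg.Agent.S1063

/-!
# The elements of order 3 of `E₆(2)` (helper38)

* `cent_three` : `|C(x)| ≤ 60476129280` for `x` of order 3 in `E₆(2)`;
* `e6_c3`, `e6_c3_iso` : the class of `x` has at least `3552502087680 > 2 ^ 41` elements.
-/

set_option autoImplicit false
set_option linter.unusedSectionVars false

namespace Cfsg.Agent.H38.CS

open CoxeterSystem Cfsg Cfsg.Lie Cfsg.Lie.ChevalleyDatum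
open Cfsg.Agent.ChevalleyStructure Cfsg.Agent.ChevalleyStructure.Elts Cfsg.Agent.ChevalleyStructure.CoxeterGeom
  Cfsg.Agent.ChevalleyStructure.CoxeterGeomTypes Cfsg.Agent.ChevalleyStructure.NPerm
open Cfsg.Agent.Tits.Roots Cfsg.Agent.Tits.Core Cfsg.Agent.Nodes Cfsg.Agent.Nodes.Reps Cfsg.Agent.Nodes.BNOf
  Cfsg.Agent.Nodes.RGDChev
open Cfsg.Agent.H129.TorusChar Cfsg.Agent.H972.CS.Main Cfsg.Agent.H972.CS.Eval Cfsg.Agent.H972.CS.LinkOf
  Cfsg.Agent.H972.CS.E6Link

universe u v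

/-- the list of the Kac points of degree 3 -/
def kacL : List (List ℤ) := [[0, 0, 0, 0, 0, 0], [0, 0, 0, 0, 0, 1], [0, 0, 0, 0, 0, 2], [0, 0, 0, 0, 0, 3],
    [0, 0, 0, 0, 1, 0], [0, 0, 0, 0, 1, 1], [0, 0, 0, 1, 0, 0], [0, 0, 1, 0, 0, 0], [0, 0, 1, 0, 0, 1],
    [0, 1, 0, 0, 0, 0], [0, 1, 0, 0, 0, 1], [1, 0, 0, 0, 0, 0], [1, 0, 0, 0, 0, 1], [1, 0, 0, 0, 0, 2],
    [1, 0, 0, 0, 1, 0], [1, 0, 1, 0, 0, 0], [1, 1, 0, 0, 0, 0], [2, 0, 0, 0, 0, 0], [2, 0, 0, 0, 0, 1],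
    [3, 0, 0, 0, 0, 0]]

set_option maxRecDepth 1000000 in
theorem kac_eq3 : kac6 3 = kacL := by decide +kernel

/-- the cases -/
def C3 (fl : List ℤ) : Prop :=
  (∀ i : Fin 6, ((fl.getD i 0 : ℤ) : ZMod 3) = 0) ∨ data6.ok 6 2 3 1 60476129280 fl = true

theorem cases3 : ∀ fl ∈ kac6 3, C3 fl := by
  rw [kac_eq3]
  intro fl hfl
  simp only [kacL, List.mem_cons, List.not_mem_nil, or_false] at hfl
  rcases hfl with rfl | rfl | rfl | rfl | rfl | rfl | rfl | rfl | rfl | rfl | rfl | rfl | rfl | rfl | rfl | rfl |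
    rfl | rfl | rfl | rfl
  · exact Or.inl (by decide)
  · exact Or.inr E6VB.v000001
  · exact Or.inr E6VB.v000002
  · exact Or.inl (by decide)
  · exact Or.inr E6VB.v000010
  · exact Or.inr E6VA.v000011
  · exact Or.inr E6VB.v000100
  · exact Or.inr E6VB.v001000
  · exact Or.inr E6VB.v001001
  · exact Or.inr E6VA.v010000
  · exact Or.inr E6VB.v010001
  · exact Or.inr E6VB.v100000
  · exact Or.inr E6VB.v100001
  · exact Or.inr E6VB.v100002
  · exact Or.inr E6VB.v100010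
  · exact Or.inr E6VA.v101000
  · exact Or.inr E6VB.v110000
  · exact Or.inr E6VB.v200000
  · exact Or.inr E6VB.v200001
  · exact Or.inl (by decide)

/-- a functional vanishing on the simple roots vanishes -/
theorem f_eq_zero {l s : ℕ} {f : (Fin l → ℤ) →+ ZMod s} (h : ∀ i : Fin l, f (sr i) = 0) : f = 0 := by
  refine DFunLike.ext _ _ fun x => ?_
  conv_lhs => rw [eq_sum_sr x]
  rw [map_sum, AddMonoidHom.zero_apply]
  refine Finset.sum_eq_zero fun i _ => ?_
  rw [map_zsmul, h, smul_zero]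

theorem typeE6 : IsType chevE6 6 CoxeterMatrix.E₆ := by simp [IsType, typeList]

/-- **The generic closing for `E₆(q)`.** -/
theorem cent_le_E6 {F : Type u} [Field F] [Fintype F] {s K : ℕ} (hs : s.Prime) (hsF : (s : F) ≠ 0)
    (hok : ∀ fl ∈ kac6 s, (∀ i : Fin 6, ((fl.getD i 0 : ℤ) : ZMod s) = 0) ∨
      data6.ok 6 (Fintype.card F) s 1 K fl = true) {x : ↥(chevE6.group F)} (hx : orderOf x = s) :
    Nat.card ↥(Subgroup.centralizer {x}) ≤ K := by
  refine cent_le typeE6 invC_E6 (by norm_num) (Or.inr (by norm_num)) hs hsF (meets6 typeE6 hs.pos)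
    (link6 typeE6 CoxeterMatrix.E₆.toCoxeterSystem) (gok_one typeE6 CoxeterMatrix.E₆.toCoxeterSystem) ?_ hx
  rintro f ⟨fl, hfl, hf⟩ hf0
  refine ⟨fl, kac_length hfl, hf, ?_⟩
  rcases hok fl hfl with h | h
  · exact absurd (f_eq_zero fun i => by rw [hf, h]) hf0
  · exact h

section

variable {F : Type u} [Field F] [Fintype F] (hF : Fintype.card F = 2)

include hF in
theorem ne_zero_of_odd {s : ℕ} (hs : s % 2 = 1) : (s : F) ≠ 0 := by
  intro h
  have h2 : ringChar F = 2 := by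
    have h3 := FiniteField.card F (ringChar F)
    obtain ⟨n, hn, hc⟩ := h3
    rw [hF] at hc
    have h4 : ringChar F ∣ 2 := by rw [hc]; exact dvd_pow_self _ n.ne_zero
    exact (Nat.prime_dvd_prime_iff_eq hn Nat.prime_two).1 h4
  have h5 := (ringChar.spec F s).1 h
  rw [h2] at h5
  omega

include hF in
theorem card_E6_two : Nat.card ↥(chevE6.group F) = 214841575522005575270400 := by
  have hc := Cfsg.Agent.S1063.result (F := F) (q := 2) hF
  norm_num at hc
  exact hc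

include hF in
/-- **The centralisers of order 3.** -/
theorem cent_three {x : ↥(chevE6.group F)} (hx : orderOf x = 3) :
    Nat.card ↥(Subgroup.centralizer {x}) ≤ 60476129280 := by
  refine cent_le_E6 Nat.prime_three (ne_zero_of_odd hF rfl) (fun fl hfl => ?_) hx
  rw [hF]
  exact cases3 fl hfl

include hF in
/-- **The classes of order 3 of `E₆(2)`.** -/
theorem e6_c3 {x : ↥(chevE6.group F)} (hx : orderOf x = 3) : 3552502087680 ≤ Cfsg.Agent.H742.EX.cG x :=
  cG_ge (cent_three hF hx) (by rw [card_E6_two hF])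

include hF in
theorem e6_c3' {x : ↥(chevE6.group F)} (hx : orderOf x = 3) : 3 * 2 ^ 36 ≤ Cfsg.Agent.H742.EX.cG x :=
  le_trans (by norm_num) (e6_c3 hF hx)

include hF in
theorem e6_c3_iso {G : Type v} [Group G] (e : G ≃* ↥(chevE6.group F)) {x : G} (hx : orderOf x = 3) :
    3552502087680 ≤ Cfsg.Agent.H742.EX.cG x := by
  rw [← cG_iso e x]
  exact e6_c3 hF (by rw [MulEquiv.orderOf_eq, hx])

end

end Cfsg.Agent.H38.CS
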