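import Cfsg.Agent.H972.CS.Main
import Cfsg.Agent.H931.KC.Alcove

/-!
# S5745: the radical of the form of `E₆` modulo 3 (helper38)

`u = 3 ω₁ = 4 α₁ + 3 α₂ + 5 α₃ + 6 α₄ + 4 α₅ + 2 α₆` is fixed by `W(E₆)` modulo `3 Q`; so `f ∘ w = - f`
(`f : Q → ℤ/3`) implies `f u = 0`, which excludes the types `D₅`, `A₄A₁`.
-/

set_option autoImplicit false
set_option linter.unusedSectionVars false

namespace Cfsg.Agent.H38.CS

open CoxeterSystem Cfsg Cfsg.Lie Cfsg.Lie.ChevalleyDatum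
open Cfsg.Agent.ChevalleyStructure Cfsg.Agent.ChevalleyStructure.Elts Cfsg.Agent.ChevalleyStructure.CoxeterGeom
  Cfsg.Agent.ChevalleyStructure.CoxeterGeomTypes Cfsg.Agent.ChevalleyStructure.NPerm
open Cfsg.Agent.Tits.Roots Cfsg.Agent.Tits.Core Cfsg.Agent.Nodes Cfsg.Agent.Nodes.Reps Cfsg.Agent.Nodes.BNOf
  Cfsg.Agent.Nodes.RGDChev
open Cfsg.Agent.KFacts.RgdField Cfsg.Agent.KFacts.RgdChevCoord
open Cfsg.Agent.BpExc Cfsg.Agent.BpExc.NChev Cfsg.Agent.H972.CS Cfsg.Agent.H972.CS.Main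

/-- `3 ω₁` -/
def u6 : Fin 6 → ℤ := ![4, 3, 5, 6, 4, 2]

theorem pairing_u6 : ∀ i : Fin 6, (3 : ℤ) ∣ pairing (cartanOf chevE6 6) i u6 := by
  unfold pairing
  decide +kernel

section

variable {M : CoxeterMatrix (Fin 6)} (hp : IsType chevE6 6 M) {W : Type*} [Group W] (cs : CoxeterSystem M W)

/-- every vector which is `u6` modulo 3 has pairings divisible by 3 -/
theorem pairing_dvd {x : Fin 6 → ℤ} (hx : ∀ k, (3 : ℤ) ∣ x k - u6 k) (i : Fin 6) :
    (3 : ℤ) ∣ pairing (cartanOf chevE6 6) i x := by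
  have h1 : pairing (cartanOf chevE6 6) i x = pairing (cartanOf chevE6 6) i u6 +
      pairing (cartanOf chevE6 6) i (x - u6) := by
    unfold pairing
    rw [← Finset.sum_add_distrib]
    refine Finset.sum_congr rfl fun j _ => ?_
    rw [Pi.sub_apply]
    ring
  rw [h1]
  refine dvd_add (pairing_u6 i) ?_
  unfold pairing
  refine Finset.dvd_sum fun j _ => ?_
  exact Dvd.dvd.mul_left (hx j) _

theorem rep_u6 (w : W) : ∀ k, (3 : ℤ) ∣ rep cs hp.isCartan w u6 k - u6 k := by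
  induction w using cs.simple_induction_left with
  | one => intro k; rw [map_one, Module.End.one_apply, sub_self]; exact dvd_zero _
  | mul_simple_left w i ih =>
    intro k
    rw [rep_mul_apply, rep_simple_eq, Pi.sub_apply, Pi.smul_apply, smul_eq_mul]
    have h1 := pairing_dvd ih i
    have h2 : rep cs hp.isCartan w u6 k - pairing (cartanOf chevE6 6) i (rep cs hp.isCartan w u6) * (sr i : Fin 6 → ℤ) k - u6 k =
      (rep cs hp.isCartan w u6 k - u6 k) - pairing (cartanOf chevE6 6) i (rep cs hp.isCartan w u6) * (sr i : Fin 6 → ℤ) k := by ring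
    rw [h2]
    exact dvd_sub (ih k) (Dvd.dvd.mul_right h1 _)

/-- a vector divisible by 3 is killed -/
theorem f_three (f : (Fin 6 → ℤ) →+ ZMod 3) {x : Fin 6 → ℤ} (hx : ∀ k, (3 : ℤ) ∣ x k) : f x = 0 := by
  choose y hy using hx
  have h1 : x = (3 : ℕ) • y := by
    funext k
    rw [hy, Pi.smul_apply, nsmul_eq_mul]
    rfl
  rw [h1, map_nsmul, nsmul_eq_mul]
  have : ((3 : ℕ) : ZMod 3) = 0 := by decide
  rw [this, zero_mul]

theorem f_rep_u6 (f : (Fin 6 → ℤ) →+ ZMod 3) (w : W) : f (rep cs hp.isCartan w u6) = f u6 := by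
  have h1 := f_three f (x := rep cs hp.isCartan w u6 - u6) fun k => by
    rw [Pi.sub_apply]; exact rep_u6 hp cs w k
  rwa [map_sub, sub_eq_zero] at h1

/-- **real functionals kill `u6`** (`q ≡ 2 mod 3`, untwisted) -/
theorem f_u6_eq_zero {f : (Fin 6 → ℤ) →+ ZMod 3} {q : ℕ} (hq : q % 3 = 2) {w : W}
    (h : ∀ y, f (rep cs hp.isCartan w y) = q • f y) : f u6 = 0 := by
  have h1 := h u6
  rw [f_rep_u6 hp cs, nsmul_eq_mul] at h1
  have h2 : (q : ZMod 3) = 2 := by
    rw [← Nat.div_add_mod q 3, hq]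
    push_cast
    have : (3 : ZMod 3) = 0 := by decide
    rw [this, zero_mul, zero_add]
  rw [h2] at h1
  have h3 : ∀ z : ZMod 3, z = 2 * z → z = 0 := by decide
  exact h3 _ h1

end

end Cfsg.Agent.H38.CS
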